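import Mathlib
import Cfsg.Prelude.Def_Blocks
set_option linter.all false

-- part: H766/KGV/Digits
section
/-!
# The digit sum identity

`N = p ^ f - 1`, `ℓ ∣ N`: the sum of the digit sums of the residues `a + i N / ℓ` modulo `N`,
`i < ℓ`, is the digit sum of `ℓ a` modulo `N` plus `f (p - 1) (ℓ - 1) / 2`.
-/

set_option autoImplicit false

open Finset

namespace Cfsg.Agent.H766.KGV.Digits

theorem digits_sum_add_mul {p : ℕ} (hp : 1 < p) (t m : ℕ) (ht : t < p) :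
    (Nat.digits p (t + p * m)).sum = t + (Nat.digits p m).sum := by
  rcases Nat.eq_zero_or_pos (t + p * m) with h | h
  · have h1 : t = 0 := by omega
    have h2 : m = 0 := by
      subst h1
      rcases Nat.eq_zero_or_pos m with h3 | h3
      · exact h3
      · have : 0 < p * m := Nat.mul_pos (by omega) h3
        omega
    subst h1 h2
    simp
  · rw [Nat.digits_def' hp h, List.sum_cons, Nat.add_mul_mod_self_left, Nat.mod_eq_of_lt ht,
      Nat.add_mul_div_left _ _ (by omega), Nat.div_eq_of_lt ht, zero_add]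

/-- `N s(a) = (p - 1) ∑_{j < f} (p ^ j a mod N)`. -/
theorem mul_digits_sum {p f a : ℕ} (hp : 1 < p) (ha : a < p ^ f - 1) :
    (p ^ f - 1) * (Nat.digits p a).sum = (p - 1) * ∑ j ∈ range f, (p ^ j * a) % (p ^ f - 1) := by
  set N := p ^ f - 1 with hN
  have hN0 : 0 < N := by omega
  have hpf : p ^ f = N + 1 := by omega
  set t : ℕ → ℕ := fun j => (p * ((p ^ j * a) % N)) / N with ht
  have htp : ∀ j, t j < p := by
    intro j
    simp only [ht]
    rw [Nat.div_lt_iff_lt_mul hN0]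
    exact Nat.mul_lt_mul_of_pos_left (Nat.mod_lt _ hN0) (by omega)
  have hstep : ∀ j, p * ((p ^ j * a) % N) = N * t j + (p ^ (j + 1) * a) % N := by
    intro j
    have h1 : (p ^ (j + 1) * a) % N = (p * ((p ^ j * a) % N)) % N := by
      rw [pow_succ, Nat.mul_mod p ((p ^ j * a) % N) N, Nat.mod_mod, ← Nat.mul_mod]
      congr 1
      ring
    rw [h1]
    simp only [ht]
    exact (Nat.div_add_mod _ _).symm
  have hf : (p ^ f * a) % N = a := by
    rw [hpf, Nat.add_mul, one_mul, Nat.mul_add_mod, Nat.mod_eq_of_lt ha]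
  -- digit expansion
  have hA : ∀ k, ∃ A, p ^ k * a = N * A + (p ^ k * a) % N ∧
      (Nat.digits p A).sum = ∑ j ∈ range k, t j := by
    intro k
    induction k with
    | zero => exact ⟨0, by rw [pow_zero, one_mul, Nat.mod_eq_of_lt ha]; simp, by simp⟩
    | succ k ih =>
      obtain ⟨A, hA, hs⟩ := ih
      refine ⟨t k + p * A, ?_, ?_⟩
      · have h2 := hstep k
        have h3 : p ^ (k + 1) * a = p * (p ^ k * a) := by ring
        calc p ^ (k + 1) * a = p * (p ^ k * a) := h3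
          _ = p * (N * A + (p ^ k * a) % N) := by rw [← hA]
          _ = N * (p * A) + p * ((p ^ k * a) % N) := by ring
          _ = N * (p * A) + (N * t k + (p ^ (k + 1) * a) % N) := by rw [h2]
          _ = _ := by ring
      · rw [digits_sum_add_mul hp _ _ (htp k), hs, sum_range_succ]
        ring
  obtain ⟨A, hA1, hA2⟩ := hA f
  have hAa : A = a := by
    rw [hf, hpf] at hA1
    have : N * a = N * A := by linarith
    exact (Nat.eq_of_mul_eq_mul_left hN0 this).symm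
  rw [hAa] at hA2
  rw [hA2]
  -- telescoping
  have hsum : p * ∑ j ∈ range f, (p ^ j * a) % N
      = N * ∑ j ∈ range f, t j + ∑ j ∈ range f, (p ^ (j + 1) * a) % N := by
    rw [mul_sum, mul_sum, ← sum_add_distrib]
    exact sum_congr rfl fun j _ => hstep j
  have hshift : ∑ j ∈ range f, (p ^ (j + 1) * a) % N = ∑ j ∈ range f, (p ^ j * a) % N := by
    have h1 := sum_range_succ (fun j => (p ^ j * a) % N) f
    have h2 := sum_range_succ' (fun j => (p ^ j * a) % N) f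
    rw [h1] at h2
    simp only [hf, pow_zero, one_mul, Nat.mod_eq_of_lt ha] at h2
    omega
  rw [hshift] at hsum
  obtain ⟨p', rfl⟩ : ∃ p', p = p' + 1 := ⟨p - 1, by omega⟩
  rw [Nat.add_sub_cancel]
  have : (p' + 1) * ∑ j ∈ range f, ((p' + 1) ^ j * a) % N
      = p' * ∑ j ∈ range f, ((p' + 1) ^ j * a) % N + ∑ j ∈ range f, ((p' + 1) ^ j * a) % N := by
    ring
  omega

/-- `∑_{i < ℓ} ((x + i m) mod (ℓ m)) = (ℓ x mod ℓ m) + m * ℓ (ℓ - 1) / 2`. -/
theorem sum_mod {ℓ m : ℕ} (hℓ : 0 < ℓ) (hm : 0 < m) (x : ℕ) :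
    ∑ i ∈ range ℓ, (x + i * m) % (ℓ * m) = (ℓ * x) % (ℓ * m) + m * (ℓ * (ℓ - 1) / 2) := by
  -- write x = r + c m
  have h1 : ∀ c, ∑ i ∈ range ℓ, (x % m + (c + i) * m) % (ℓ * m)
      = ∑ i ∈ range ℓ, (x % m + i * m) := by
    intro c
    induction c with
    | zero =>
      refine sum_congr rfl fun i hi => ?_
      rw [zero_add, Nat.mod_eq_of_lt]
      have h2 := Nat.mod_lt x hm
      have h3 : i + 1 ≤ ℓ := mem_range.1 hi
      have h4 : (i + 1) * m ≤ ℓ * m := Nat.mul_le_mul_right _ h3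
      have h5 : (i + 1) * m = i * m + m := by ring
      omega
    | succ c ih =>
      rw [← ih]
      have e1 := sum_range_succ (fun i => (x % m + (c + i) * m) % (ℓ * m)) ℓ
      have e2 := sum_range_succ' (fun i => (x % m + (c + i) * m) % (ℓ * m)) ℓ
      rw [e1] at e2
      have e3 : (x % m + (c + ℓ) * m) % (ℓ * m) = (x % m + (c + 0) * m) % (ℓ * m) := by
        rw [add_zero, add_mul, ← add_assoc, Nat.add_mod_right]
      rw [e3] at e2
      have e4 := Nat.add_right_cancel e2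
      rw [e4]
      refine sum_congr rfl fun i _ => ?_
      congr 2
      ring
  have h2 : ∑ i ∈ range ℓ, (x + i * m) % (ℓ * m)
      = ∑ i ∈ range ℓ, (x % m + (x / m + i) * m) % (ℓ * m) := by
    refine sum_congr rfl fun i _ => ?_
    congr 1
    have := Nat.mod_add_div x m
    rw [add_mul, ← add_assoc]
    congr 1
    rw [mul_comm (x / m) m]
    exact this.symm
  rw [h2, h1, sum_add_distrib, sum_const, card_range, smul_eq_mul, ← sum_mul, Finset.sum_range_id,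
    Nat.mul_mod_mul_left]
  ring

/-- The permutation `i ↦ c i mod ℓ`. -/
theorem sum_mul_mod {ℓ c : ℕ} (hℓ : 0 < ℓ) (hc : Nat.Coprime c ℓ) (g : ℕ → ℕ)
    (hg : ∀ i, g (i % ℓ) = g i) : ∑ i ∈ range ℓ, g (c * i) = ∑ i ∈ range ℓ, g i := by
  have hinj : Set.InjOn (fun i => c * i % ℓ) (range ℓ) := by
    intro i hi j hj hij
    have h1 : c * i ≡ c * j [MOD ℓ] := hij
    have h2 : i ≡ j [MOD ℓ] := Nat.ModEq.cancel_left_of_coprime (by rwa [Nat.gcd_comm]) h1
    have hi' := mem_range.1 (mem_coe.1 hi)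
    have hj' := mem_range.1 (mem_coe.1 hj)
    unfold Nat.ModEq at h2
    rwa [Nat.mod_eq_of_lt hi', Nat.mod_eq_of_lt hj'] at h2
  have himg : (range ℓ).image (fun i => c * i % ℓ) = range ℓ := by
    refine eq_of_subset_of_card_le ?_ ?_
    · intro y hy
      obtain ⟨i, _, rfl⟩ := mem_image.1 hy
      exact mem_range.2 (Nat.mod_lt _ hℓ)
    · rw [card_image_of_injOn hinj]
  conv_rhs => rw [← himg]
  rw [sum_image hinj]
  exact sum_congr rfl fun i _ => (hg _).symm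

/-- **The digit sum identity.** -/
theorem digit_identity {p f ℓ c : ℕ} (hp : 1 < p) (hℓ : Odd ℓ) (hdvd : ℓ ∣ p ^ f - 1)
    (hN : 0 < p ^ f - 1) (hc : Nat.Coprime c ℓ) (a : ℕ) :
    ∑ i ∈ range ℓ, (Nat.digits p ((a + c * i * ((p ^ f - 1) / ℓ)) % (p ^ f - 1))).sum
      = (Nat.digits p ((ℓ * a) % (p ^ f - 1))).sum + f * (p - 1) * ((ℓ - 1) / 2) := by
  set N := p ^ f - 1 with hNd
  obtain ⟨m, hm⟩ := hdvd
  have hℓ0 : 0 < ℓ := hℓ.pos
  have hm0 : 0 < m := by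
    rcases Nat.eq_zero_or_pos m with h | h
    · rw [h, mul_zero] at hm; omega
    · exact h
  have hNm : N / ℓ = m := by rw [hm]; exact Nat.mul_div_cancel_left m hℓ0
  have hcop : Nat.Coprime p N := by
    have hf : f ≠ 0 := by rintro rfl; simp [hNd] at hN
    have h1 : Nat.Coprime (p ^ f) N := by
      rw [show p ^ f = N + 1 by omega]
      simp
    exact (Nat.coprime_pow_left_iff (Nat.pos_of_ne_zero hf) _ _).1 h1
  have hcopℓ : ∀ j, Nat.Coprime (p ^ j) ℓ :=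
    fun j => Nat.Coprime.pow_left j (Nat.Coprime.coprime_dvd_right ⟨m, hm⟩ hcop)
  obtain ⟨n, hn⟩ := hℓ
  refine Nat.eq_of_mul_eq_mul_left hN ?_
  rw [mul_sum, mul_add, mul_digits_sum hp (Nat.mod_lt _ hN)]
  have h1 : ∀ i ∈ range ℓ, N * (Nat.digits p ((a + c * i * (N / ℓ)) % N)).sum
      = (p - 1) * ∑ j ∈ range f, (p ^ j * a + (p ^ j * c) * i * m) % (ℓ * m) := by
    intro i _
    rw [mul_digits_sum hp (Nat.mod_lt _ hN), ← hNd, hNm, ← hm]
    congr 1
    refine sum_congr rfl fun j _ => ?_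
    rw [Nat.mul_mod (p ^ j) ((a + c * i * m) % N) N, Nat.mod_mod, ← Nat.mul_mod]
    congr 1
    ring
  rw [sum_congr rfl h1, ← mul_sum, sum_comm]
  have h2 : ∀ j ∈ range f, ∑ i ∈ range ℓ, (p ^ j * a + (p ^ j * c) * i * m) % (ℓ * m)
      = (p ^ j * (ℓ * a % N)) % N + m * (ℓ * (ℓ - 1) / 2) := by
    intro j _
    have h3 := sum_mul_mod (ℓ := ℓ) (c := p ^ j * c) hℓ0
      (Nat.Coprime.mul_left (hcopℓ j) hc) (fun i => (p ^ j * a + i * m) % (ℓ * m)) (by
        intro i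
        show (p ^ j * a + i % ℓ * m) % (ℓ * m) = (p ^ j * a + i * m) % (ℓ * m)
        rw [← Nat.mul_mod_mul_right m i ℓ, Nat.add_mod_mod])
    rw [h3, sum_mod hℓ0 hm0]
    congr 1
    rw [Nat.mul_mod (p ^ j) (ℓ * a % N) N, Nat.mod_mod, ← Nat.mul_mod, ← hm]
    congr 1
    ring
  rw [sum_congr rfl h2, sum_add_distrib, sum_const, card_range, smul_eq_mul, ← hNd, mul_add]
  congr 1
  have h4 : (ℓ - 1) / 2 = n := by omega
  have h5 : ℓ * (ℓ - 1) / 2 = ℓ * n := by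
    rw [show ℓ - 1 = 2 * n by omega, ← mul_assoc, mul_comm ℓ 2, mul_assoc,
      Nat.mul_div_cancel_left _ (by norm_num)]
  rw [h4, h5, hm]
  ring

end Cfsg.Agent.H766.KGV.Digits
end

-- part: H766/KGV/Unit
section
/-!
# The Hasse-Davenport quotient is a unit at the primes over `p`

From the Stickelberger theorem (valuations of Gauss sums) in the form `StickLight`.
-/

set_option autoImplicit false

open Finset

namespace Cfsg.Agent.H766.KGV

open Cfsg

/-- Stickelberger's theorem: the Gauss sum of `ω ^ a` is `P ^ s(a)` up to units at `M`. -/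
def StickLight : Prop := ∀ (p : ℕ) (M : Ideal AlgInt), IsPModular p M →
  ∀ (K : Type) [Field K] [Fintype K] [CharP K p] (f : ℕ), Fintype.card K = p ^ f →
    2 < Fintype.card K →
    ∃ (ω : MulChar K ℂ) (P : ℂ), orderOf ω = Fintype.card K - 1 ∧
      (∀ ψ : AddChar K ℂ, ψ ≠ 1 → ∀ a, a < Fintype.card K - 1 → ∃ x y : AlgInt, x ∉ M ∧ y ∉ M ∧
        (x : ℂ) * P ^ (Nat.digits p a).sum = y * gaussSum (ω ^ a) ψ) ∧
      (∃ x y : AlgInt, x ∉ M ∧ y ∉ M ∧
        (x : ℂ) * P ^ (f * (p - 1)) = y * (Fintype.card K : ℂ)) ∧ P ≠ 0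

/-- `z` is a unit at `M`. -/
def MUnit (M : Ideal AlgInt) (z : ℂ) : Prop :=
  ∃ x y : AlgInt, x ∉ M ∧ y ∉ M ∧ (y : ℂ) * z = x

namespace MUnit

variable {M : Ideal AlgInt} (hM : M.IsPrime)

theorem ne_zero {z : ℂ} (h : MUnit M z) : z ≠ 0 := by
  obtain ⟨x, y, hx, hy, e⟩ := h
  rintro rfl
  apply hx
  have : x = 0 := by
    apply Subtype.ext
    rw [← e, mul_zero]
    rfl
  rw [this]
  exact M.zero_mem

theorem coe_ne_zero {y : AlgInt} (hy : y ∉ M) : (y : ℂ) ≠ 0 := by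
  intro h
  apply hy
  have : y = 0 := Subtype.ext h
  rw [this]
  exact M.zero_mem

include hM in
theorem one : MUnit M 1 :=
  ⟨1, 1, fun h => hM.ne_top ((Ideal.eq_top_iff_one _).2 h),
    fun h => hM.ne_top ((Ideal.eq_top_iff_one _).2 h), by simp⟩

include hM in
theorem mul {z w : ℂ} (hz : MUnit M z) (hw : MUnit M w) : MUnit M (z * w) := by
  obtain ⟨x, y, hx, hy, e⟩ := hz
  obtain ⟨x', y', hx', hy', e'⟩ := hw
  refine ⟨x * x', y * y', fun h => (hM.mem_or_mem h).elim hx hx',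
    fun h => (hM.mem_or_mem h).elim hy hy', ?_⟩
  push_cast
  rw [← e, ← e']
  ring

theorem inv {z : ℂ} (hz : MUnit M z) : MUnit M z⁻¹ := by
  have h0 := hz.ne_zero
  obtain ⟨x, y, hx, hy, e⟩ := hz
  refine ⟨y, x, hy, hx, ?_⟩
  rw [← e]
  field_simp

include hM in
theorem pow {z : ℂ} (hz : MUnit M z) (n : ℕ) : MUnit M (z ^ n) := by
  induction n with
  | zero => rw [pow_zero]; exact one hM
  | succ n ih => rw [pow_succ]; exact mul hM ih hz

include hM in
theorem prod {ι : Type*} (s : Finset ι) (z : ι → ℂ) (hz : ∀ i ∈ s, MUnit M (z i)) :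
    MUnit M (∏ i ∈ s, z i) := by
  classical
  induction s using Finset.induction_on with
  | empty => rw [prod_empty]; exact one hM
  | insert a s ha ih =>
    rw [prod_insert ha]
    exact mul hM (hz a (mem_insert_self a s)) (ih fun i hi => hz i (mem_insert_of_mem hi))

include hM in
theorem div {z w : ℂ} (hz : MUnit M z) (hw : MUnit M w) : MUnit M (z / w) := by
  rw [div_eq_mul_inv]
  exact mul hM hz hw.inv

theorem of_eq {x y : AlgInt} {z w : ℂ} (hx : x ∉ M) (hy : y ∉ M) (hw : w ≠ 0)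
    (e : (x : ℂ) * z = y * w) : MUnit M (z / w) :=
  ⟨y, x, hy, hx, by rw [mul_div_assoc', e, mul_div_assoc, div_self hw, mul_one]⟩

end MUnit

theorem exists_pow_lt {K : Type*} [Field K] [Fintype K] {ω : MulChar K ℂ}
    (hω : orderOf ω = Fintype.card K - 1) (h1 : 1 < Fintype.card K) (χ : MulChar K ℂ) :
    ∃ a < Fintype.card K - 1, χ = ω ^ a := by
  classical
  have hcard : Nat.card (MulChar K ℂ) = Fintype.card K - 1 := by
    rw [MulChar.card_eq_card_units_of_hasEnoughRootsOfUnity, Nat.card_eq_fintype_card,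
      Fintype.card_units]
  have : Finite (MulChar K ℂ) := Nat.finite_of_card_ne_zero (by omega)
  have h2 : Subgroup.zpowers ω = ⊤ := by
    apply Subgroup.eq_top_of_card_eq
    rw [Nat.card_zpowers, hω, hcard]
  have h3 : χ ∈ Subgroup.zpowers ω := by rw [h2]; trivial
  rw [← mem_powers_iff_mem_zpowers] at h3
  obtain ⟨n, hn⟩ := h3
  refine ⟨n % orderOf ω, ?_, ?_⟩
  · rw [← hω]; exact Nat.mod_lt _ (by rw [hω]; omega)
  · rw [pow_mod_orderOf]; exact hn.symm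

/-- The quotient of the two sides of the product formula is a unit at `M`. -/
theorem munit_quot {p f : ℕ} (hp : p.Prime) {M : Ideal AlgInt} (hM : M.IsPrime)
    {K : Type*} [Field K] [Fintype K] (hf : Fintype.card K = p ^ f)
    {ω : MulChar K ℂ} {P : ℂ} (hω : orderOf ω = Fintype.card K - 1)
    (hG : ∀ ψ : AddChar K ℂ, ψ ≠ 1 → ∀ a, a < Fintype.card K - 1 → ∃ x y : AlgInt, x ∉ M ∧ y ∉ M ∧
        (x : ℂ) * P ^ (Nat.digits p a).sum = y * gaussSum (ω ^ a) ψ)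
    (hq : ∃ x y : AlgInt, x ∉ M ∧ y ∉ M ∧
        (x : ℂ) * P ^ (f * (p - 1)) = y * (Fintype.card K : ℂ)) (hP : P ≠ 0)
    {χ ρ : MulChar K ℂ} {ψ ψ' : AddChar K ℂ} (hψ : ψ ≠ 1) (hψ' : ψ' ≠ 1) {ℓ : ℕ} (hℓ : ℓ.Prime)
    (hℓ2 : ℓ ≠ 2) (hρ : orderOf ρ = ℓ) :
    MUnit M ((∏ i ∈ range ℓ, gaussSum (χ * ρ ^ i) ψ) /
      (gaussSum (χ ^ ℓ) ψ' * (Fintype.card K : ℂ) ^ ((ℓ - 1) / 2))) := by
  classical
  have h1 : 1 < Fintype.card K := Fintype.one_lt_card
  have hN : 0 < p ^ f - 1 := by omega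
  -- Gauss sums are powers of `P`
  have hg : ∀ ψ : AddChar K ℂ, ψ ≠ 1 → ∀ a, MUnit M
      (gaussSum (ω ^ a) ψ / P ^ (Nat.digits p (a % (p ^ f - 1))).sum) := by
    intro ψ hψ a
    have h2 : ω ^ a = ω ^ (a % (p ^ f - 1)) := by
      rw [← hf, ← hω, pow_mod_orderOf]
    rw [h2]
    obtain ⟨x, y, hx, hy, e⟩ := hG ψ hψ (a % (p ^ f - 1)) (by rw [hf]; exact Nat.mod_lt _ hN)
    exact MUnit.of_eq hy hx (pow_ne_zero _ hP) e.symm
  have hqu : MUnit M ((Fintype.card K : ℂ) / P ^ (f * (p - 1))) := by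
    obtain ⟨x, y, hx, hy, e⟩ := hq
    exact MUnit.of_eq hy hx (pow_ne_zero _ hP) e.symm
  obtain ⟨a, _, hχ⟩ := exists_pow_lt hω h1 χ
  obtain ⟨b, _, hρb⟩ := exists_pow_lt hω h1 ρ
  have hdvd : ℓ ∣ p ^ f - 1 := by
    rw [← hρ, hρb, ← hf, ← hω]
    exact orderOf_pow_dvd b
  obtain ⟨m, hm⟩ := hdvd
  have hm0 : 0 < m := by
    rcases Nat.eq_zero_or_pos m with h | h
    · rw [h, mul_zero] at hm; omega
    · exact h
  -- `b = c m`
  have hb : ∃ c, b = c * m ∧ Nat.Coprime c ℓ := by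
    have h2 : orderOf (ω ^ b) = ℓ := by rw [← hρb]; exact hρ
    rw [orderOf_pow, hω, hf, hm] at h2
    have hg0 : Nat.gcd (ℓ * m) b ∣ ℓ * m := Nat.gcd_dvd_left _ _
    have h3 : Nat.gcd (ℓ * m) b = m := by
      have h4 : ℓ * m = ℓ * Nat.gcd (ℓ * m) b := by
        conv_lhs => rw [← Nat.div_mul_cancel hg0, h2]
      exact (Nat.eq_of_mul_eq_mul_left hℓ.pos h4).symm
    have h5 : m ∣ b := by rw [← h3]; exact Nat.gcd_dvd_right _ _
    obtain ⟨c, hc⟩ := h5
    refine ⟨c, by rw [hc]; ring, ?_⟩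
    rw [hc, mul_comm ℓ m, Nat.gcd_mul_left] at h3
    have h6 : Nat.gcd ℓ c = 1 := by
      have : m * Nat.gcd ℓ c = m * 1 := by rw [h3, mul_one]
      exact Nat.eq_of_mul_eq_mul_left hm0 this
    rwa [Nat.coprime_comm]
  obtain ⟨c, rfl, hc⟩ := hb
  have hodd : Odd ℓ := hℓ.odd_of_ne_two hℓ2
  have hid := Digits.digit_identity (p := p) (f := f) (ℓ := ℓ) (c := c) hp.one_lt hodd ⟨m, hm⟩ hN hc a
  have hNm : (p ^ f - 1) / ℓ = m := by rw [hm]; exact Nat.mul_div_cancel_left m hℓ.pos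
  rw [hNm] at hid
  -- assemble
  have e1 : MUnit M ((∏ i ∈ range ℓ, gaussSum (χ * ρ ^ i) ψ) /
      P ^ (∑ i ∈ range ℓ, (Nat.digits p ((a + c * i * m) % (p ^ f - 1))).sum)) := by
    rw [← prod_pow_eq_pow_sum, ← prod_div_distrib]
    refine MUnit.prod hM _ _ fun i _ => ?_
    have h7 : χ * ρ ^ i = ω ^ (a + c * i * m) := by
      rw [hχ, hρb, ← pow_mul, ← pow_add]
      congr 2
      ring
    rw [h7]
    exact hg ψ hψ _
  have e2 : MUnit M (gaussSum (χ ^ ℓ) ψ' / P ^ (Nat.digits p ((ℓ * a) % (p ^ f - 1))).sum) := by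
    have h7 : χ ^ ℓ = ω ^ (ℓ * a) := by rw [hχ, ← pow_mul, mul_comm]
    rw [h7]
    exact hg ψ' hψ' _
  have e3 : MUnit M ((Fintype.card K : ℂ) ^ ((ℓ - 1) / 2) / P ^ (f * (p - 1) * ((ℓ - 1) / 2))) := by
    rw [pow_mul P, ← div_pow]
    exact MUnit.pow hM hqu _
  have e4 := MUnit.div hM e1 (MUnit.mul hM e2 e3)
  rw [hid, pow_add] at e4
  have h8 : gaussSum (χ ^ ℓ) ψ' ≠ 0 := by
    have := e2.ne_zero
    intro h
    rw [h, zero_div] at this
    exact this rfl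
  have h9 : ((Fintype.card K : ℂ)) ^ ((ℓ - 1) / 2) ≠ 0 :=
    pow_ne_zero _ (by exact_mod_cast (by omega : Fintype.card K ≠ 0))
  have h10 : P ^ (Nat.digits p ((ℓ * a) % (p ^ f - 1))).sum ≠ 0 := pow_ne_zero _ hP
  have h11 : P ^ (f * (p - 1) * ((ℓ - 1) / 2)) ≠ 0 := pow_ne_zero _ hP
  convert e4 using 1
  field_simp

theorem orderOf_dvd_card {K : Type*} [Field K] [Fintype K] (ρ : MulChar K ℂ) :
    orderOf ρ ∣ Fintype.card K - 1 := by
  classical
  refine orderOf_dvd_of_pow_eq_one ?_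
  rw [← Fintype.card_units K]
  exact MulChar.pow_card_eq_one ρ

/-- `ψ (ℓ x)` is nontrivial. -/
theorem mulShift_ne_one {K : Type*} [Field K] {ψ : AddChar K ℂ} (hψ : ψ ≠ 1) {c : K}
    (hc : c ≠ 0) : ψ.mulShift c ≠ 1 := by
  intro h
  apply hψ
  ext x
  have := congrArg (fun φ : AddChar K ℂ => φ (c⁻¹ * x)) h
  simpa [AddChar.mulShift_apply, mul_inv_cancel_left₀ hc] using this

/-- Task KGV NT3a2. -/
theorem nt3a2 (hS : StickLight) {p : ℕ} {M : Ideal AlgInt} (hM : IsPModular p M)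
    {K : Type} [Field K] [Fintype K] [CharP K p] {χ ρ : MulChar K ℂ} {ψ : AddChar K ℂ}
    (hψ : ψ ≠ 1) {ℓ : ℕ} (hℓ : ℓ.Prime) (hℓ2 : ℓ ≠ 2) (hρ : orderOf ρ = ℓ) :
    ∃ x y : AlgInt, x ∉ M ∧ y ∉ M ∧ (y : ℂ) * ∏ i ∈ range ℓ, gaussSum (χ * ρ ^ i) ψ =
      x * (gaussSum (χ ^ ℓ) (ψ.mulShift (ℓ : K)) * (Fintype.card K : ℂ) ^ ((ℓ - 1) / 2)) := by
  classical
  obtain ⟨hp, hMm, hpM⟩ := hM
  have hMp : M.IsPrime := hMm.isPrime
  obtain ⟨n, -, hn⟩ := FiniteField.card K p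
  have hdvd : ℓ ∣ Fintype.card K - 1 := by rw [← hρ]; exact orderOf_dvd_card ρ
  have h1 : 1 < Fintype.card K := Fintype.one_lt_card
  have h2 : 2 < Fintype.card K := by
    have := Nat.le_of_dvd (by omega) hdvd
    have := hℓ.two_le
    omega
  obtain ⟨ω, P, hω, hG, hq, hP⟩ := hS p M ⟨hp, hMm, hpM⟩ K n hn h2
  have hℓK : (ℓ : K) ≠ 0 := by
    intro h
    have h3 : p ∣ ℓ := (CharP.cast_eq_zero_iff K p ℓ).1 h
    have h4 : p = ℓ := (Nat.prime_dvd_prime_iff_eq hp hℓ).1 h3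
    subst h4
    have h5 : p ∣ Fintype.card K := by
      rw [hn]; exact dvd_pow_self p n.pos.ne'
    have h6 : p ∣ 1 := by
      have := Nat.dvd_sub h5 hdvd
      rwa [show Fintype.card K - (Fintype.card K - 1) = 1 by omega] at this
    exact hp.one_lt.ne' (Nat.dvd_one.1 h6)
  have hu := munit_quot hp hMp hn hω hG hq hP (χ := χ) (ρ := ρ) (ψ := ψ)
    (ψ' := ψ.mulShift (ℓ : K)) hψ (mulShift_ne_one hψ hℓK) hℓ hℓ2 hρ
  have hne := hu.ne_zero
  obtain ⟨x, y, hx, hy, e⟩ := hu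
  refine ⟨x, y, hx, hy, ?_⟩
  rw [mul_div_assoc', div_eq_iff] at e
  · exact e
  · intro h
    rw [h, div_zero] at hne
    exact hne rfl

end Cfsg.Agent.H766.KGV
end
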